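import Cfsg.Agent.BpRankZero.Seven
import Cfsg.Agent.BpSpor.Row.M
import Cfsg.Agent.BpSpor.RowAll
import Cfsg.Agent.CpAutMSeven.Quo_m3
import Cfsg.Agent.MFive.Row
import Cfsg.Agent.MFive.KPair
import Cfsg.Agent.CpAutMSeven.Hex
import Cfsg.Agent.S1695
import Cfsg.Agent.S0205
import Cfsg.Agent.FastGrp
import Cfsg.Agent.Prune
set_option linter.all false
prune_inst 0x7f00000000000000000000000000000000000000000000000000000000000000000000000000000000000000000000000000000000000000000000000000000000000000000000000000000000000000003fffffffffffffffffffffffffffbeffbdffffffff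
open scoped Cfsg.Agent.FastGrp

/-!
# S1332: the row `M`, `p = 7` (helper62)

`bps_seven_of (hHe : HeSix) : BpS 7 Spor.Monster`, `HeSix` : `C(x)/⟨x⟩ ≅ He` for the elements `x` of order 7 and fixed
rank 6 of `C(z)`.
-/

set_option autoImplicit false
set_option maxRecDepth 100000

namespace Cfsg.Agent.BpRankZero.MRow

open Cfsg Cfsg.Agent.BpTab
open Cfsg.Agent.MonsterX Cfsg.Agent.MonsterX.InstData
open Cfsg.Agent.MonsterP
open Cfsg.Agent.LThreeMB (fr XX KChart.pi KChart.chart exists_XX_equiv)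
open Cfsg.Agent.BpSpor (bpS_of_inner center_eq_bot_of_card)
open Cfsg.Spor (Co1)
open Subgroup (centralizer mem_centralizer_singleton_iff)

/-- the elements of order 7 and fixed rank 6 have `C(x)/⟨x⟩ ≅ He` -/
def HeSix : Prop :=
  ∀ x : centralizer ({KDone.K.z} : Set ↥InstData.M.G), orderOf x = 7 →
    fr (KChart.pi MFive.Row.hc x) = 2 ^ 6 → Spor.IsoHe (XX (x : ↥InstData.M.G))

theorem he_facts {X : Type*} [Group X] (h : Spor.IsoHe X) : IsSimpleGroup X ∧ Nat.card X = 4030387200 := by
  obtain ⟨e⟩ := h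
  exact ⟨(MulEquiv.isSimpleGroup_congr e).2 Cfsg.Agent.S1695.result.1,
    (Nat.card_congr e.toEquiv).trans Cfsg.Agent.S1695.result.2⟩

/-- an element of order 7 and fixed rank 6 -/
theorem exists_six : ∃ r : centralizer ({KDone.K.z} : Set ↥InstData.M.G), orderOf r = 7 ∧
    fr (KChart.pi MFive.Row.hc r) = 2 ^ 6 := by
  obtain ⟨r, hr, h1⟩ := MFive.KPair.exists_order (KChart.chart KDone.lft MFive.Row.hc) (p := 7) (by norm_num)
    (by decide) CpAutMSeven.Ranks.orderOf_mk_r7
  exact ⟨r, hr, by rw [h1]; exact CpAutMSeven.Ranks.fr_r7⟩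

/-- `x` in `C(z)` -/
theorem good_cent (hHe : HeSix) {x : centralizer ({KDone.K.z} : Set ↥InstData.M.G)} (hx : orderOf x = 7) :
    Good 7 ↥(centralizer ({(x : ↥InstData.M.G)} : Set ↥InstData.M.G)) := by
  have := MFive.Row.finite_model
  have h := KChart.chart KDone.lft MFive.Row.hc
  have hp : Nat.Prime 7 := by norm_num
  rcases CpAutMSeven.Ranks.hranks _ (MFive.orderOf_pi h hp (by decide) hx) with h1 | h1
  · obtain ⟨r, hr, hr6⟩ := exists_six
    refine Seven.good_zero (fun K _ _ => Cfsg.Agent.S0205.result) KDone.lft MFive.Row.hc hx h1 hr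
      (by rw [hr6]; norm_num) fun y hy hfy => ?_
    have h6 : fr (KChart.pi MFive.Row.hc y) = 2 ^ 6 :=
      (CpAutMSeven.Ranks.hranks _ (MFive.orderOf_pi h hp (by decide) hy)).resolve_left hfy
    rw [Seven.card_cent, (he_facts (hHe y hy h6)).2, Subgroup.orderOf_coe, hy]
    norm_num
  · exact Seven.good_of_simple_XX hp (he_facts (hHe x hx h1)).1

theorem good_model (hHe : HeSix) {x : ↥InstData.M.G} (hx : orderOf x = 7) :
    Good 7 ↥(centralizer ({x} : Set ↥InstData.M.G)) := by
  have := MFive.Row.finite_model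
  have hpf : Fact (Nat.Prime 7) := ⟨by norm_num⟩
  by_cases ho : Odd (Nat.card ↥(centralizer ({x} : Set ↥InstData.M.G)))
  · exact good_of_solvable (Cfsg.Agent.S0205.result ho)
  · obtain ⟨g, hg⟩ := MSevenT.hexOdd x hx ho
    have h1 : (g⁻¹ * x * g) * KDone.K.z = KDone.K.z * (g⁻¹ * x * g) := by
      calc (g⁻¹ * x * g) * KDone.K.z = g⁻¹ * (x * (g * KDone.K.z * g⁻¹)) * g := by group
        _ = g⁻¹ * ((g * KDone.K.z * g⁻¹) * x) * g := by rw [hg]
        _ = KDone.K.z * (g⁻¹ * x * g) := by group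
    let x' : centralizer ({KDone.K.z} : Set ↥InstData.M.G) := ⟨g⁻¹ * x * g, mem_centralizer_singleton_iff.2 h1⟩
    have h3 : g * (x' : ↥InstData.M.G) * g⁻¹ = x := by
      change g * (g⁻¹ * x * g) * g⁻¹ = x
      group
    have hx' : orderOf x' = 7 := by
      rw [← Subgroup.orderOf_coe, ← hx, ← h3]
      exact (orderOf_injective (MulAut.conj g).toMonoidHom (MulAut.conj g).injective (x' : ↥InstData.M.G)).symm
    obtain ⟨⟨e⟩, -⟩ := exists_XX_equiv h3
    exact (good_cent hHe hx').congr e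

/-- **Row `M`, `p = 7`.** -/
theorem bps_seven_of (hHe : HeSix) : BpS 7 Spor.Monster := by
  have h7 : Fact (Nat.Prime 7) := ⟨by norm_num⟩
  have hfin : Finite Spor.Monster := Nat.finite_of_card_ne_zero (by
    rw [Cfsg.Agent.MonsterP.Equiv.isM.2]
    norm_num)
  obtain ⟨f⟩ := Cfsg.Agent.MonsterP.Equiv.equiv
  refine bpS_of_inner (center_eq_bot_of_card Cfsg.Agent.MonsterP.Equiv.isM.1 (by
    rw [Cfsg.Agent.MonsterP.Equiv.isM.2]; norm_num)) (BpSpor.Inn.m ⟨MulEquiv.refl _⟩ 7 (by norm_num) (by norm_num))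
    fun g hg => ?_
  have h1 : orderOf (f g) = 7 := by rw [MulEquiv.orderOf_eq, hg]
  have e : ↥(centralizer ({g} : Set Spor.Monster)) ≃* ↥(centralizer ({f g} : Set ↥InstData.M.G)) := by
    refine ((centralizer ({g} : Set Spor.Monster)).equivMapOfInjective f.toMonoidHom f.injective).trans
      (MulEquiv.subgroupCongr ?_)
    ext y
    rw [Subgroup.mem_map, mem_centralizer_singleton_iff]
    constructor
    · rintro ⟨c, hc, rfl⟩
      rw [mem_centralizer_singleton_iff] at hc
      change f c * f g = f g * f c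
      rw [← map_mul, hc, map_mul]
    · intro hy
      refine ⟨f.symm y, ?_, f.apply_symm_apply y⟩
      rw [mem_centralizer_singleton_iff]
      apply f.injective
      rw [map_mul, map_mul, f.apply_symm_apply, hy]
  have := MFive.Row.finite_model
  exact (good_model hHe h1).congr e.symm

end Cfsg.Agent.BpRankZero.MRow
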